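import Mathlib
import Groth.Agent.Lib.Helper29.QCohExact
import Groth.Agent.Lib.Helper29.QCohLocFree
import Groth.Agent.Lib.Helper9.RefStalk1
import Groth.Prelude.Def_FlatMod2

/-! # Stalks of a pushforward along a topological embedding, and flatness of the morphism -/

set_option autoImplicit false
universe u
open CategoryTheory CategoryTheory.Limits AlgebraicGeometry TopologicalSpace Opposite
open Groth.Agent.Lib.Helper29.QCoh

namespace Groth.Agent.Lib.Helper2.PushStalk

variable {Z X : Scheme.{u}} (h : Z ⟶ X) (M : Z.Modules) (z : Z)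

/-- The canonical map `(h_* M)_{h z} ⟶ M_z`. -/
noncomputable def sp :
    ((Scheme.Modules.pushforward h).obj M).presheaf.stalk (h z) ⟶ M.presheaf.stalk z :=
  TopCat.Presheaf.stalkPushforward AddCommGrpCat h.base M.presheaf z

theorem sp_germ (U : X.Opens) (hz : h z ∈ U) (m : Γ((Scheme.Modules.pushforward h).obj M, U)) :
    sp h M z (((Scheme.Modules.pushforward h).obj M).presheaf.germ U (h z) hz m) =
      M.presheaf.germ (h ⁻¹ᵁ U) z hz m := by
  have := TopCat.Presheaf.stalkPushforward_germ AddCommGrpCat h.base M.presheaf U z hz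
  exact congrArg (fun φ => φ m) this

theorem isIso_sp (hind : Topology.IsInducing h.base) : IsIso (sp h M z) :=
  TopCat.Presheaf.stalkPushforward.stalkPushforward_iso_of_isInducing AddCommGrpCat hind
    M.presheaf z

theorem sp_smul (r : X.presheaf.stalk (h z))
    (m : ((Scheme.Modules.pushforward h).obj M).presheaf.stalk (h z)) :
    sp h M z (r • m) = (h.stalkMap z).hom r • sp h M z m := by
  obtain ⟨U, hxU, s, rfl⟩ := ((Scheme.Modules.pushforward h).obj M).presheaf.exists_germ_eq m
  obtain ⟨V, hxV, a, rfl⟩ := X.presheaf.exists_germ_eq r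
  have hxW : h z ∈ U ⊓ V := ⟨hxU, hxV⟩
  have e1 : ((Scheme.Modules.pushforward h).obj M).presheaf.germ U (h z) hxU s =
      ((Scheme.Modules.pushforward h).obj M).presheaf.germ (U ⊓ V) (h z) hxW
      (((Scheme.Modules.pushforward h).obj M).presheaf.map (homOfLE inf_le_left).op s) :=
    (((Scheme.Modules.pushforward h).obj M).presheaf.germ_res_apply
      (homOfLE inf_le_left) (h z) hxW s).symm
  have e2 : X.presheaf.germ V (h z) hxV a = X.presheaf.germ (U ⊓ V) (h z) hxW
      (X.presheaf.map (homOfLE inf_le_right).op a) :=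
    (X.presheaf.germ_res_apply (homOfLE inf_le_right) (h z) hxW a).symm
  rw [e1, e2, ← germ_smul, sp_germ, sp_germ]
  have e3 : (h.stalkMap z).hom (X.presheaf.germ (U ⊓ V) (h z) hxW
      (X.presheaf.map (homOfLE inf_le_right).op a)) =
      Z.presheaf.germ (h ⁻¹ᵁ (U ⊓ V)) z hxW
        (h.app (U ⊓ V) (X.presheaf.map (homOfLE inf_le_right).op a)) :=
    Scheme.Hom.germ_stalkMap_apply h (U ⊓ V) z hxW _
  rw [e3]
  exact germ_smul M z (h ⁻¹ᵁ (U ⊓ V)) hxW _ _

/-- If `h` is a topological embedding, `N ≅ O_Z`, and the stalk of `h_* N` at `h z` is flat over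
`O_{X, h z}`, then `O_{X, h z} → O_{Z, z}` is flat. -/
theorem flat_stalkMap_of_flat_pushforward (hind : Topology.IsInducing h.base) (N : Z.Modules)
    (e : N ≅ Coh.structureModule Z)
    (hfl : Module.Flat (X.presheaf.stalk (h z))
      (((Scheme.Modules.pushforward h).obj N).presheaf.stalk (h z))) :
    (h.stalkMap z).hom.Flat := by
  haveI := isIso_sp h N z hind
  letI : Algebra (X.presheaf.stalk (h z)) (Z.presheaf.stalk z) := (h.stalkMap z).hom.toAlgebra
  have halg : ∀ (r : X.presheaf.stalk (h z)) (d : Z.presheaf.stalk z),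
      r • d = (h.stalkMap z).hom r * d := fun r d => rfl
  have h1 : ∀ t, stalkMap e.inv z (stalkMap e.hom z t) = t := fun t => by
    have h0 : stalkMap e.hom z ≫ stalkMap e.inv z = 𝟙 _ :=
      (((stalkFunctor Z z).map_comp e.hom e.inv).symm.trans
        (congrArg (stalkFunctor Z z).map e.hom_inv_id)).trans ((stalkFunctor Z z).map_id N)
    exact congrArg (fun φ => φ t) h0
  have h2 : ∀ t, stalkMap e.hom z (stalkMap e.inv z t) = t := fun t => by
    have h0 : stalkMap e.inv z ≫ stalkMap e.hom z = 𝟙 _ :=
      (((stalkFunctor Z z).map_comp e.inv e.hom).symm.trans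
        (congrArg (stalkFunctor Z z).map e.inv_hom_id)).trans ((stalkFunctor Z z).map_id _)
    exact congrArg (fun φ => φ t) h0
  have h3 : ∀ t, inv (sp h N z) (sp h N z t) = t := fun t =>
    congrArg (fun φ => φ t) (IsIso.hom_inv_id (sp h N z))
  have h4 : ∀ t, sp h N z (inv (sp h N z) t) = t := fun t =>
    congrArg (fun φ => φ t) (IsIso.inv_hom_id (sp h N z))
  let oE := Groth.Agent.Lib.Helper9.RefStalk.oEquiv (X := Z) z
  let E : (((Scheme.Modules.pushforward h).obj N).presheaf.stalk (h z)) ≃ₗ[X.presheaf.stalk (h z)]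
      (Z.presheaf.stalk z) :=
    { toFun := fun t => oE.symm (stalkMap e.hom z (sp h N z t))
      map_add' := fun a b => by
        rw [map_add, map_add, map_add]
      map_smul' := fun r t => by
        rw [sp_smul, stalkMap_smul, map_smul, halg]
        rfl
      invFun := fun d => inv (sp h N z) (stalkMap e.inv z (oE d))
      left_inv := fun t => by
        simp only [LinearEquiv.apply_symm_apply, h1, h3]
      right_inv := fun d => by
        simp only [LinearEquiv.symm_apply_apply, h2, h4] }
  exact Module.Flat.of_linearEquiv E.symm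

end Groth.Agent.Lib.Helper2.PushStalk
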